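import Groth.Prelude.Def_FinFr
import Groth.Agent.Sga4h.H928.ImmVan
import Groth.Agent.Sga4h.H928.Sys
import Groth.Agent.Sga4h.H927.PtFin
import Groth.Agent.Sga4h.H407.ExtGeom

/-!
# Excision for compactly supported cohomology: the punctual part

* `bijective_H_map_of_supp`: a morphism of sheaves which is an isomorphism off a closed subscheme finite over a
  separably closed field, with zero source on it, is bijective on `H^n`, `n ≥ 2`.
* `stalk_cases`: the stalks of `π⁻¹ j_! (i_! i⁻¹ F ⟶ F)`.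
-/

set_option autoImplicit false
universe u
open CategoryTheory CategoryTheory.Limits AlgebraicGeometry Opposite Topology

namespace K819.HcTwo

open Groth.Agent.Etcore Groth.Agent.Etcore.ShriekUnique Groth.Agent.Etcore.OpenClosed
  Groth.Agent.Etcore.Stalks Groth.Agent.Etcore.ShriekBasic Groth.Agent.Sga4h.H928.ClosedMV
  Groth.Agent.Sga4h.H928.ImmVan

theorem bijective_H_map_of_supp {Ω₀ : Type u} [Field Ω₀] [IsSepClosed Ω₀] {Z W : Scheme.{u}}
    (z : Z ⟶ W) [IsClosedImmersion z] (c : Z ⟶ Spec (CommRingCat.of Ω₀)) [IsFinite c]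
    {A B : EtCoh.Ab W} (φ : A ⟶ B)
    (h1 : ∀ (Ω : Type u) [Field Ω] [IsSepClosed Ω] (ξ : Spec (CommRingCat.of Ω) ⟶ W),
      ξ default ∉ Set.range z → IsIso ((EtCoh.stalk ξ).map φ))
    (h2 : ∀ (Ω : Type u) [Field Ω] [IsSepClosed Ω] (ξ : Spec (CommRingCat.of Ω) ⟶ W),
      ξ default ∈ Set.range z → IsZero ((EtCoh.stalk ξ).obj A)) (n : ℕ) :
    Function.Bijective (Sheaf.H.map φ (n + 2)) := by
  have hmono : Mono φ := by
    rw [mono_iff_stalks]
    intro Ω _ _ ξ
    by_cases h : ξ default ∈ Set.range z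
    · have h3 := h2 Ω ξ h
      intro x y _
      have h4 := AddCommGrpCat.subsingleton_of_isZero h3
      exact Subsingleton.elim _ _
    · have := h1 Ω ξ h
      exact ((ConcreteCategory.isIso_iff_bijective _).1 this).1
  let S : ShortComplex (EtCoh.Ab W) := ShortComplex.mk φ (cokernel.π φ) (cokernel.condition φ)
  have hS : S.ShortExact :=
    { exact := ShortComplex.exact_of_g_is_cokernel _ (cokernelIsCokernel φ)
      mono_f := hmono
      epi_g := inferInstanceAs (Epi (cokernel.π φ)) }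
  have hsupp : SuppIn (cokernel φ) (Set.range z) := by
    intro Ω _ _ ξ hξ
    have h3 := h1 Ω ξ hξ
    have h5 : (cokernel.π φ) ≫ (𝟙 _) = cokernel.π φ := Category.comp_id _
    have hz : (EtCoh.stalk ξ).map (cokernel.π φ) = 0 := by
      rw [← cancel_epi ((EtCoh.stalk ξ).map φ), ← Functor.map_comp, cokernel.condition,
        Functor.map_zero, comp_zero]
    have hepi : Epi ((EtCoh.stalk ξ).map (cokernel.π φ)) := inferInstance
    rw [hz] at hepi
    exact IsZero.of_epi_zero ((EtCoh.stalk ξ).obj B) _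
  have hvan : ∀ q : ℕ, 0 < q → Subsingleton (EtCoh.H W (cokernel φ) q) := fun q hq =>
    subsingleton_H_of_closed z _ hsupp q
      (Groth.Agent.Sga4h.H927.PtFin.subsingleton_H c _ q hq)
  constructor
  · exact Groth.Agent.Sga4h.H928.Sys.post_injective_succ hS (n + 1) (hvan _ (by omega))
  · exact Groth.Agent.Sga4h.H928.Sys.post_surjective hS (n + 2) (hvan _ (by omega))

section Stalks

variable {X₀ P₀ U₀ W : Scheme.{u}} (j : X₀ ⟶ P₀) [IsOpenImmersion j] [EtShriek.JCont j]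
  (i : U₀ ⟶ X₀) [IsOpenImmersion i] [EtShriek.JCont i]

theorem isIso_stalk_extZero_map {Ω : Type u} [Field Ω] [IsSepClosed Ω]
    (v : Spec (CommRingCat.of Ω) ⟶ X₀) {A B : EtCoh.Ab X₀} (a : A ⟶ B)
    (h : IsIso ((EtCoh.stalk v).map a)) :
    IsIso ((EtCoh.stalk (v ≫ j)).map ((EtShriek.extZero j).map a)) := by
  rw [isIso_stalk_map_iff]
  exact (NatIso.isIso_map_iff
    (Functor.isoWhiskerRight (asIso (EtShriek.extZeroAdj j).unit) (EtCoh.stalk v)) a).1 h

theorem isZero_stalk_extZero_obj {Ω : Type u} [Field Ω] [IsSepClosed Ω]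
    (v : Spec (CommRingCat.of Ω) ⟶ X₀) {A : EtCoh.Ab X₀}
    (h : IsZero ((EtCoh.stalk v).obj A)) :
    IsZero ((EtCoh.stalk (v ≫ j)).obj ((EtShriek.extZero j).obj A)) :=
  h.of_iso ((stalkRestrIso j v).app _ ≪≫
    ((Functor.isoWhiskerRight (asIso (EtShriek.extZeroAdj j).unit) (EtCoh.stalk v)).app A).symm)

/-- `j_! (i_! i⁻¹ F ⟶ F)` is an isomorphism on stalks off `j(X₀ ∖ U₀)`. -/
theorem isIso_stalk_main (F : EtCoh.Ab X₀) {Ω : Type u} [Field Ω] [IsSepClosed Ω]
    (η : Spec (CommRingCat.of Ω) ⟶ P₀) (hη : η default ∉ j '' (Set.range i)ᶜ) :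
    IsIso ((EtCoh.stalk η).map ((EtShriek.extZero j).map ((EtShriek.extZeroAdj i).counit.app F))) := by
  by_cases h : η default ∈ Set.range j
  · obtain ⟨v, rfl⟩ := exists_lift j η h
    refine isIso_stalk_extZero_map j v _ (isIso_stalk_counit i v ?_ F)
    by_contra h2
    exact hη ⟨v default, h2, by rw [Scheme.Hom.comp_apply]⟩
  · exact (isZero_stalk_extZero' j η h _).isIso (isZero_stalk_extZero' j η h _) _

theorem isZero_stalk_main (F : EtCoh.Ab U₀) {Ω : Type u} [Field Ω] [IsSepClosed Ω]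
    (η : Spec (CommRingCat.of Ω) ⟶ P₀) (hη : η default ∈ j '' (Set.range i)ᶜ) :
    IsZero ((EtCoh.stalk η).obj ((EtShriek.extZero j).obj ((EtShriek.extZero i).obj F))) := by
  obtain ⟨x, hx, hx'⟩ := hη
  obtain ⟨v, rfl⟩ := exists_lift j η ⟨x, hx'⟩
  refine isZero_stalk_extZero_obj j v (isZero_stalk_extZero' i v ?_ F)
  rw [Scheme.Hom.comp_apply] at hx'
  rw [← j.isOpenEmbedding.injective hx']
  exact hx

variable (π : W ⟶ P₀)

theorem bijective_main {Ω₀ : Type u} [Field Ω₀] [IsSepClosed Ω₀] {Z : Scheme.{u}}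
    (z : Z ⟶ W) [IsClosedImmersion z] (c : Z ⟶ Spec (CommRingCat.of Ω₀)) [IsFinite c]
    (hz : Set.range z = π ⁻¹' (j '' (Set.range i)ᶜ)) (F : EtCoh.Ab X₀) (n : ℕ) :
    Function.Bijective (Sheaf.H.map ((EtCoh.pull π).map
      ((EtShriek.extZero j).map ((EtShriek.extZeroAdj i).counit.app F))) (n + 2)) := by
  refine bijective_H_map_of_supp z c _ ?_ ?_ n
  · intro Ω _ _ ξ hξ
    refine (NatIso.isIso_map_iff (Groth.Agent.Etbase.StalkPull.stalkPullIso π ξ) _).1 ?_
    refine isIso_stalk_main j i F (ξ ≫ π) ?_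
    rw [hz] at hξ
    rwa [Scheme.Hom.comp_apply]
  · intro Ω _ _ ξ hξ
    refine (isZero_stalk_main j i ((EtShriek.restrAlong i).obj F) (ξ ≫ π) ?_).of_iso
      ((Groth.Agent.Etbase.StalkPull.stalkPullIso π ξ).app _).symm
    rw [hz] at hξ
    rwa [Scheme.Hom.comp_apply]

end Stalks

end K819.HcTwo
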