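import Groth.Prelude.Def_FinFr
import Groth.Agent.S2346
import Groth.Agent.Lefpen.H705.ClosedPoint
import Groth.Agent.Sga4h.H928.ClosedMV
import Mathlib.AlgebraicGeometry.Geometrically.Irreducible
import Mathlib.AlgebraicGeometry.Morphisms.UniversallyOpen
import Mathlib.AlgebraicGeometry.Limits
import Mathlib.AlgebraicGeometry.Noetherian

/-!
# Complements of open subschemes of smooth curves

`exists_finite_closed`: the complement of a nonempty open subscheme of a smooth geometrically irreducible curve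
is (the image in a compactification of) a closed subscheme finite over the field.
-/

set_option autoImplicit false
universe u
open CategoryTheory CategoryTheory.Limits AlgebraicGeometry Opposite Topology

namespace K819.CurveCompl

variable {k : Type u} [Field k]

theorem finite_compl {X₀ U₀ : Scheme.{u}} (a : X₀ ⟶ Spec (CommRingCat.of k))
    [SmoothOfRelativeDimension 1 a] [QuasiCompact a] [IrreducibleSpace X₀]
    (i : U₀ ⟶ X₀) [IsOpenImmersion i] [Nonempty ↥U₀] :
    (Set.range i)ᶜ.Finite ∧ ∀ x ∈ (Set.range i)ᶜ, IsClosed ({x} : Set X₀) := by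
  have hsm : Smooth a := SmoothOfRelativeDimension.smooth 1 a
  have hJ : JacobsonSpace X₀ := LocallyOfFiniteType.jacobsonSpace a
  have hN : IsLocallyNoetherian X₀ := LocallyOfFiniteType.isLocallyNoetherian a
  have hC : CompactSpace X₀ := QuasiCompact.compactSpace_of_compactSpace a
  have hN' : IsNoetherian X₀ := {}
  have hdim : ∀ x : X₀, IsClosed ({x} : Set X₀) → ringKrullDim (X₀.presheaf.stalk x) = 1 :=
    fun x hx => by
      have := Groth.Agent.Lefpen.H705.ClosedPoint.ringKrullDim_stalk a 1 x hx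
      exact_mod_cast this
  have hO : IsOpen (Set.range i) := i.isOpenEmbedding.isOpen_range
  have hη : genericPoint X₀ ∉ (Set.range i)ᶜ := by
    intro h
    obtain ⟨u⟩ := ‹Nonempty ↥U₀›
    exact h ((genericPoint_specializes (i u)).mem_open hO ⟨u, rfl⟩)
  refine ⟨Groth.Agent.S2346.finite_of_isClosed X₀ hdim _ hO.isClosed_compl hη, fun x hx => ?_⟩
  rcases Groth.Agent.S2346.eq_genericPoint_or_isClosed X₀ hdim x with h | h
  · exact absurd (h ▸ hx) hη
  · exact h

theorem exists_finite_closed {X₀ P₀ U₀ : Scheme.{u}} (a : X₀ ⟶ Spec (CommRingCat.of k))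
    [SmoothOfRelativeDimension 1 a] [QuasiCompact a] [IrreducibleSpace X₀]
    (j : X₀ ⟶ P₀) [IsOpenImmersion j] (b : P₀ ⟶ Spec (CommRingCat.of k)) [IsProper b]
    (i : U₀ ⟶ X₀) [IsOpenImmersion i] [Nonempty ↥U₀] :
    ∃ (Z₀ : Scheme.{u}) (z₀ : Z₀ ⟶ P₀), IsClosedImmersion z₀ ∧
      Set.range z₀ = j '' (Set.range i)ᶜ ∧ IsFinite (z₀ ≫ b) := by
  obtain ⟨hfin, hcl⟩ := finite_compl a i
  have hJ : JacobsonSpace P₀ := LocallyOfFiniteType.jacobsonSpace b
  have hcl' : ∀ y ∈ j '' (Set.range i)ᶜ, IsClosed ({y} : Set P₀) := by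
    rintro _ ⟨x, hx, rfl⟩
    apply isClosed_singleton_of_isLocallyClosed_singleton
    rw [← Set.image_singleton]
    exact (hcl x hx).isLocallyClosed.image j.isOpenEmbedding.isInducing
      j.isOpenEmbedding.isOpen_range.isLocallyClosed
  have hfin' : (j '' (Set.range i)ᶜ).Finite := hfin.image _
  have hclT : IsClosed (j '' (Set.range i)ᶜ) := by
    rw [← Set.biUnion_of_singleton (j '' (Set.range i)ᶜ)]
    exact hfin'.isClosed_biUnion hcl'
  obtain ⟨Z₀, z₀, hz, -, -, -, hr, -⟩ :=
    Groth.Agent.Sga4h.H928.ClosedMV.exists_closed (P := P₀) hclT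
  refine ⟨Z₀, z₀, hz, hr, ?_⟩
  have hinj : Function.Injective z₀ := z₀.isClosedEmbedding.injective
  have hF : Finite Z₀ := by
    have : Finite (Set.range z₀) := by rw [hr]; exact hfin'
    exact Finite.of_injective (Set.rangeFactorization z₀) fun x y h => hinj (congrArg Subtype.val h)
  have hT : T1Space Z₀ := ⟨fun x => by
    have h1 : ({x} : Set Z₀) = z₀ ⁻¹' {z₀ x} := by
      ext y
      simp only [Set.mem_singleton_iff, Set.mem_preimage]
      exact ⟨fun h => by rw [h], fun h => hinj h⟩
    rw [h1]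
    exact (hcl' (z₀ x) (hr ▸ ⟨x, rfl⟩)).preimage z₀.continuous⟩
  have hD : DiscreteTopology Z₀ := inferInstance
  rw [IsFinite.iff_isProper_and_isAffineHom]
  exact ⟨inferInstance, inferInstance⟩

end K819.CurveCompl
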