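import Groth.Prelude.Def_FinFr
import Groth.Agent.Sga4h.H137.NP
import Groth.Agent.Sga4h.H407.ExtGeom
import Groth.Agent.Sga4B.ConsEmbed
import Groth.Agent.Etcore.ShriekBaseChange
import Groth.Agent.EtpbcA.PullFLC
import Mathlib.AlgebraicGeometry.Geometrically.Irreducible
import Mathlib.AlgebraicGeometry.Morphisms.UniversallyOpen

/-!
# `H⁰_c` of a non proper curve with coefficients in a finite locally constant sheaf

* `np_of_flc`: a section of a finite locally constant sheaf on an irreducible scheme which vanishes over the
  generic point is zero;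
* `isProper_of_isClosed_range`: an open subscheme of a proper scheme whose base change to an algebraic
  extension is closed is proper.
-/

set_option autoImplicit false
universe u
open CategoryTheory CategoryTheory.Limits AlgebraicGeometry Opposite Topology

namespace K819.HcZero

open EtCoh EtShriek Groth.Agent.Etrest.Supp Groth.Agent.Sga4h.H137.NP

theorem np_of_flc {X : Scheme.{u}} [IrreducibleSpace X] (F : EtCoh.Ab X)
    (hF : EtCoh.IsFiniteLocallyConstant F) : NP F := by
  intro U s hs
  by_contra hne
  have hne' : (sectSupp F U s).Nonempty := by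
    rw [Set.nonempty_iff_ne_empty]
    intro h
    exact hne ((sectSupp_eq_empty_iff F U s).1 h)
  obtain ⟨v, hv⟩ := hne'
  obtain ⟨W, g, w, hw, hW⟩ := Groth.Agent.Sga4B.ConsEmbed.exists_nhd_of_flc F hF U s v hv
  have hfl : Flat W.hom := by
    have := W.prop
    have h2 : Etale W.hom := this
    infer_instance
  have hsp : genericPoint X ⤳ (W.hom w : X) := genericPoint_specializes (α := X) (W.hom w)
  obtain ⟨w', -, hw'2⟩ := Flat.generalizingMap W.hom hsp
  refine hs (g.left w') ?_ (hW w')
  rw [← Scheme.Hom.comp_apply]
  have h3 : g.left ≫ U.hom = W.hom := MorphismProperty.Over.w g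
  rw [h3]
  exact hw'2

open FinFr

variable {k K : Type u} [Field k] [Field K] [Algebra k K]

theorem isProper_of_isClosed_range [Algebra.IsAlgebraic k K] {X₀ P₀ : Scheme.{u}}
    (a : X₀ ⟶ Spec (CommRingCat.of k)) (j : X₀ ⟶ P₀) [IsOpenImmersion j]
    (b : P₀ ⟶ Spec (CommRingCat.of k)) [IsProper b] (hj : j ≫ b = a)
    (h : IsClosed (Set.range (extHom K a j hj))) : IsProper a := by
  have hsq := Groth.Agent.Sga4h.H407.ExtGeom.isPullback_extHom K a j hj
  have hint : IsIntegralHom (specι k K) := by
    rw [IsIntegralHom.SpecMap_iff]
    exact (algebraMap_isIntegral_iff (R := k) (A := K)).2 inferInstance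
  have hsurj : Surjective (specι k K) := by
    have h1 : Nonempty ↥(Spec (CommRingCat.of K)) :=
      inferInstanceAs (Nonempty (PrimeSpectrum K))
    have h2 : Subsingleton ↥(Spec (CommRingCat.of k)) :=
      inferInstanceAs (Subsingleton (PrimeSpectrum k))
    exact ⟨fun x => ⟨h1.some, Subsingleton.elim _ _⟩⟩
  have hint' : IsIntegralHom (extπ K b) := inferInstance
  have hsurj' : Surjective (extπ K b) := inferInstance
  have hrange : Set.range (extHom K a j hj) = (extπ K b) ⁻¹' (Set.range j) := by
    have h1 : Set.range (extHom K a j hj) =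
        Set.range (pullback.fst (extπ K b) j) := by
      have := hsq.isoPullback_hom_fst
      rw [← this, Scheme.Hom.comp_base, TopCat.coe_comp, Set.range_comp]
      have hs : Set.range hsq.isoPullback.hom = Set.univ :=
        Set.range_eq_univ.2 hsq.isoPullback.hom.surjective
      rw [hs, Set.image_univ]
    rw [h1, Scheme.Pullback.range_fst]
  have hcl : IsClosed (Set.range j) := by
    have h2 : Set.range j = (extπ K b) '' (Set.range (extHom K a j hj)) := by
      rw [hrange, Set.image_preimage_eq _ (extπ K b).surjective]
    rw [h2]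
    exact (extπ K b).isClosedMap _ h
  have : IsClosedImmersion j := IsClosedImmersion.of_isPreimmersion j hcl
  rw [← hj]
  infer_instance

end K819.HcZero
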